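import Cfsg.Agent.DS.NT.StepA
import Cfsg.Agent.DS.Lin.Uni
import Cfsg.Agent.DS.Ord.TabA
import Cfsg.Agent.SolvableStructure.HallConverse

/-!
# Non-toral local subgroups, lemmas (A) and (C) (helper98)

`lemC`: `PS (c + d) H` from `PS c` of the centralizer of `E` in `S` and `SD d (MulAut E)`.  `lemA`: `PS 9 H` if all the
`H`-invariant subgroups of prime power order of `S` lie in an elementary abelian group of rank at most eight.
`sd_mulAut_of_LB`, `sd_mulAut_two`: bounds for `MulAut E`.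
-/

set_option autoImplicit false

namespace Cfsg.Agent.DS.NT

open Cfsg.Agent.H936 Cfsg.Agent.DS.Red Cfsg.Agent.DS.Gen Cfsg.Agent.DS.Cl Subgroup Module

theorem SD.prod {k : ℕ} {X Z : Type*} [Group X] [Group Z] (h1 : SD k X) (h2 : SD k Z) : SD k (X × Z) := by
  intro Y hY
  rw [eq_bot_iff]
  intro y hy
  rw [mem_bot]
  let f : Y →* X := (MonoidHom.fst X Z).comp Y.subtype
  let g : Y →* Z := (MonoidHom.snd X Z).comp Y.subtype
  have h3 : f.rangeRestrict y ∈ derivedSeries f.range k := map_derivedSeries_le _ k ⟨y, hy, rfl⟩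
  have h4 : g.rangeRestrict y ∈ derivedSeries g.range k := map_derivedSeries_le _ k ⟨y, hy, rfl⟩
  rw [h1 _ (Group.isSolvable_of_surjective f.rangeRestrict_surjective), mem_bot] at h3
  rw [h2 _ (Group.isSolvable_of_surjective g.rangeRestrict_surjective), mem_bot] at h4
  exact Subtype.ext (Prod.ext (congrArg Subtype.val h3) (congrArg Subtype.val h4))

theorem sd_of_bot {k : ℕ} {X : Type*} [Group X] (h : derivedSeries X k = ⊥) : SD k X := by
  intro Y _
  rw [← Subgroup.map_eq_bot_iff_of_injective _ Y.subtype_injective, eq_bot_iff, ← h]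
  exact map_derivedSeries_le Y.subtype k

theorem sd_out (big : Big) {G : Type} [Group G] [Finite G] {S H : Subgroup G} (hs : Setup S H) [S.Normal] :
    SD 3 (G ⧸ S) := by
  have := hs.simple
  refine sd_of_bot ?_
  rw [← map_derivedSeries_of_surj (QuotientGroup.mk'_surjective S) 3, Subgroup.map_eq_bot_iff, QuotientGroup.ker_mk']
  exact derivedSeries_le_of_ds hs.cent (big.sch S hs.noncomm)

/-- **Lemma (C).**  `E ≤ S` is any non-trivial proper `H`-invariant subgroup. -/
theorem lemC' (big : Big) {G : Type} [Group G] [Finite G] {S H E : Subgroup G} (hs : Setup S H) (hES : E ≤ S)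
    (h0 : E ≠ ⊥) (h1 : E ≠ S) (hH : H ≤ normalizer (E : Set G)) {c d : ℕ} (hc : PS c ↥(centralizer (E : Set G) ⊓ S))
    (hd : SD d (MulAut E)) (h3 : 3 ≤ d) : PS (c + d) H := by
  have := hs.normal
  have hN := normalizer_eq_of_setup hs hES h0 h1 hH
  let f : H →* MulAut E × (G ⧸ S) :=
    (E.normalizerMonoidHom.comp (inclusion hH)).prod ((QuotientGroup.mk' S).comp H.subtype)
  have hker : f.ker = (centralizer (E : Set G) ⊓ S).subgroupOf H := by
    ext x
    rw [MonoidHom.mem_ker, mem_subgroupOf, mem_inf, Prod.ext_iff]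
    refine and_congr ?_ (QuotientGroup.eq_one_iff (x : G))
    change inclusion hH x ∈ E.normalizerMonoidHom.ker ↔ _
    rw [normalizerMonoidHom_ker]
    rfl
  refine ps_ext' f ?_ (ps_of_sd (SD.of_inj f.range.subtype f.range.subtype_injective
    (SD.prod hd (SD.mono (sd_out big hs) h3))))
  rw [hker, ps_subgroupOf (inf_le_left.trans ((centralizer_le_normalizer _).trans hN.le))]
  exact hc

/-- **Lemma (C).** -/
theorem lemC (big : Big) {G : Type} [Group G] [Finite G] {S H E : Subgroup G} (hs : Setup S H) (hES : E ≤ S)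
    (h0 : E ≠ ⊥) (hE : ∀ x ∈ E, ∀ y ∈ E, x * y = y * x) (hH : H ≤ normalizer (E : Set G)) {c d : ℕ}
    (hc : PS c ↥(centralizer (E : Set G) ⊓ S)) (hd : SD d (MulAut E)) (h3 : 3 ≤ d) : PS (c + d) H := by
  refine lemC' big hs hES h0 (fun h => hs.noncomm ⟨⟨fun x y => Subtype.ext ?_⟩⟩) hH hc hd h3
  exact hE x (h ▸ x.2) y (h ▸ y.2)

theorem exists_rep_aux {X : Type} [CommGroup X] [Finite X] {r k : ℕ} [Fact r.Prime] [Module (ZMod r) (Additive X)]
    (hk : Nat.card X ≤ r ^ k) :
    ∃ ρ : MulAut X →* Module.End (ZMod r) (Additive X), finrank (ZMod r) (Additive X) ≤ k ∧ Function.Injective ρ := by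
  have hr : r.Prime := Fact.out
  refine ⟨{ toFun := fun f => (MulEquiv.toAdditive f).toAddMonoidHom.toZModLinearMap r
            map_one' := LinearMap.ext fun _ => rfl
            map_mul' := fun _ _ => LinearMap.ext fun _ => rfl }, ?_, fun f g h => ?_⟩
  · have : Module.Finite (ZMod r) (Additive X) := Module.Finite.of_finite
    have h1 := Module.natCard_eq_pow_finrank (K := ZMod r) (V := Additive X)
    rw [Nat.card_zmod] at h1
    exact (Nat.pow_le_pow_iff_right hr.one_lt).1 (h1.symm.trans_le hk)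
  · ext x
    exact congrArg Additive.toMul (LinearMap.congr_fun h (Additive.ofMul x))

/-- the automorphisms of an elementary abelian group as a faithful representation -/
theorem exists_rep {X : Type} [Group X] [Finite X] {r k : ℕ} [Fact r.Prime] (hc : ∀ x y : X, x * y = y * x)
    (hp : ∀ x : X, x ^ r = 1) (hk : Nat.card X ≤ r ^ k) :
    ∃ (V : Type) (_ : AddCommGroup V) (_ : Module (ZMod r) V) (_ : Finite V) (ρ : MulAut X →* Module.End (ZMod r) V),
      finrank (ZMod r) V ≤ k ∧ Function.Injective ρ := by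
  let i1 : CommGroup X := { (inferInstance : Group X) with mul_comm := hc }
  let i2 : Module (ZMod r) (Additive X) := AddCommGroup.zmodModule fun a => congrArg Additive.ofMul (hp a.toMul)
  exact ⟨Additive X, inferInstance, i2, inferInstance, @exists_rep_aux X i1 _ r k _ i2 hk⟩

theorem sd_mulAut_of {X : Type} [Group X] [Finite X] {r k d : ℕ} [Fact r.Prime] (hc : ∀ x y : X, x * y = y * x)
    (hp : ∀ x : X, x ^ r = 1) (hk : Nat.card X ≤ r ^ k)
    (h : ∀ (V Y : Type) [AddCommGroup V] [Module (ZMod r) V] [Finite V] [Group Y] [Finite Y], Group.IsSolvable Y →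
      ∀ ρ : Y →* Module.End (ZMod r) V, finrank (ZMod r) V ≤ k → ∀ y ∈ derivedSeries Y d, ρ y = 1) :
    SD d (MulAut X) := by
  obtain ⟨V, _, _, _, ρ, h1, h2⟩ := exists_rep hc hp hk
  intro Y hY
  rw [eq_bot_iff]
  intro y hy
  exact Subtype.ext (h2 ((h V Y hY (ρ.comp Y.subtype) h1 y hy).trans (map_one ρ).symm))

/-- `MulAut` of an elementary abelian group of rank at most `k` -/
theorem sd_mulAut_of_LB {k d : ℕ} (hL : Lin.LB k d) {X : Type} [Group X] [Finite X] {r : ℕ} (hr : r.Prime)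
    (hc : ∀ x y : X, x * y = y * x) (hp : ∀ x : X, x ^ r = 1) (hk : Nat.card X ≤ r ^ k) : SD d (MulAut X) := by
  have : Fact r.Prime := ⟨hr⟩
  exact sd_mulAut_of hc hp hk fun V Y _ _ _ _ _ hY ρ hn => hL (ZMod r) V Y hY ρ hn

/-- the same for subgroups -/
theorem sd_mulAut_sub {k d : ℕ} (hL : Lin.LB k d) {G : Type} [Group G] [Finite G] {E : Subgroup G} {r : ℕ} (hr : r.Prime)
    (hc : ∀ x ∈ E, ∀ y ∈ E, x * y = y * x) (hp : ∀ x ∈ E, x ^ r = 1) (hk : Nat.card E ≤ r ^ k) : SD d (MulAut E) :=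
  sd_mulAut_of_LB hL hr (fun x y => Subtype.ext (hc x x.2 y y.2)) (fun x => Subtype.ext (hp x x.2)) hk

/-- composition series over a fixed field -/
theorem flagK {N : ℕ} {τ : ℕ → ℕ} (hτ : Monotone τ) {K X : Type} [Field K] [Group X]
    (hI : ∀ (W : Type) [AddCommGroup W] [Module K W] [FiniteDimensional K W] (ρ : X →* Module.End K W), Lin.Irr ρ →
      1 ≤ finrank K W → finrank K W ≤ N → ∀ x ∈ derivedSeries X (τ (finrank K W)), ρ x = 1) (n : ℕ) :
    ∀ (V : Type) [AddCommGroup V] [Module K V] [FiniteDimensional K V] (ρ : X →* Module.End K V), finrank K V = n → n ≤ N →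
      ∃ m t, 1 ≤ m ∧ m ≤ max n 1 ∧ t + m ≤ n + 1 ∧ Lin.Uni ρ (derivedSeries X (τ m)) t := by
  induction n using Nat.strong_induction_on with
  | _ n ih =>
    intro V _ _ _ ρ hn hN
    rcases subsingleton_or_nontrivial V with hV | hV
    · refine ⟨1, 0, le_rfl, le_max_right _ _, by omega, fun _ => ⊤, rfl, Subsingleton.elim _ _, fun _ _ _ => le_rfl,
        fun _ _ _ _ _ => trivial⟩
    obtain ⟨W, h0, hW, hmin⟩ := Lin.exists_min (fun x => ρ x)
    have h1 : 1 ≤ finrank K W := Submodule.one_le_finrank_iff.2 h0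
    have h2 : finrank K (V ⧸ W) + finrank K W = n := by rw [← hn]; exact W.finrank_quotient_add_finrank
    obtain ⟨m, t, hm1, hm2, hm3, U, u0, ut, ua, hU⟩ := ih _ (by omega) (V ⧸ W) (Lin.quo ρ W hW) rfl (by omega)
    have h3 := hI W (Lin.res ρ W hW) (Lin.irr_res hW hmin) h1 (by omega)
    refine ⟨max m (finrank K W), t + 1, le_max_of_le_left hm1, by omega, by omega,
      fun j => if j ≤ t then (U j).comap W.mkQ else ⊥, ?_, ?_, ?_, ?_⟩
    · simp [u0]
    · simp
    · intro i j hij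
      dsimp only
      split_ifs with h4 h5
      · exact Submodule.comap_mono (ua hij)
      · omega
      · exact bot_le
      · exact le_rfl
    · intro j y hy v hv
      dsimp only at hv ⊢
      by_cases h4 : j + 1 ≤ t
      · rw [if_pos (by omega)] at hv
        rw [if_pos h4, Submodule.mem_comap, map_sub, ← Lin.quo_apply ρ W hW]
        exact hU j y (derivedSeries_antitone X (hτ (le_max_left _ _)) hy) _ hv
      rw [if_neg h4]
      by_cases h5 : j ≤ t
      · obtain rfl : j = t := by omega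
        rw [if_pos h5, ut, Submodule.comap_bot, Submodule.ker_mkQ] at hv
        have h6 := h3 y (derivedSeries_antitone X (hτ (le_max_right _ _)) hy)
        have h7 := Lin.res_apply ρ W hW y ⟨v, hv⟩
        rw [h6] at h7
        rw [Submodule.mem_bot, sub_eq_zero]
        exact h7.symm
      · rw [if_neg h5, Submodule.mem_bot] at hv
        rw [hv, map_zero, sub_zero, Submodule.mem_bot]

/-- irreducible modules over a prime field, from the table -/
theorem irr_tab {r : ℕ} [Fact r.Prime] {X W : Type} [Group X] [Finite X] (hX : Group.IsSolvable X) [AddCommGroup W]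
    [Module (ZMod r) W] [FiniteDimensional (ZMod r) W] (ρ : X →* Module.End (ZMod r) W) (hi : Lin.Irr ρ)
    (h1 : 1 ≤ finrank (ZMod r) W) {e : ℕ}
    (h : Ord.okT Ord.tabAL r (finrank (ZMod r) W) (Ord.glN r (finrank (ZMod r) W)) e = true) :
    ∀ x ∈ derivedSeries X e, ρ x = 1 := by
  have hr : r.Prime := Fact.out
  have : Finite W := Module.finite_of_finite (ZMod r)
  let _ : DistribMulAction X W := DistribMulAction.compHom W ρ
  have hirr : H511.Wt.Irr X W := by
    refine ⟨Module.nontrivial_of_finrank_pos (R := ZMod r) h1, fun U hU => ?_⟩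
    rcases hi (AddSubgroup.toZModSubmodule r U) hU with h2 | h2
    · exact Or.inl ((AddSubgroup.toZModSubmodule r).injective (h2.trans (OrderIso.map_bot _).symm))
    · exact Or.inr ((AddSubgroup.toZModSubmodule r).injective (h2.trans (OrderIso.map_top _).symm))
  have hc : Nat.card W = r ^ finrank (ZMod r) W := by
    rw [Module.natCard_eq_pow_finrank (K := ZMod r), Nat.card_zmod]
  have h2 := Ord.tabA_valid.dl X W hirr hr le_rfl hc (Ord.card_im_dvd_gl hirr hr hc) h
  intro x hx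
  exact LinearMap.ext (h2 x (by rwa [H511.Wt.dser_top]))

/-- `MulAut` of an elementary abelian group of small rank over a small prime, from the table -/
theorem sd_mulAut_tab {r k d : ℕ} (hr : r.Prime) (τ : ℕ → ℕ) (hτ : Monotone τ)
    (h1 : ∀ m ≤ k, 1 ≤ m → Ord.okT Ord.tabAL r m (Ord.glN r m) (τ m) = true)
    (h2 : ∀ m ≤ max k 1, 1 ≤ m → τ m ≤ d ∧ k + 1 - m ≤ 2 ^ (d - τ m)) {X : Type} [Group X] [Finite X]
    (hc : ∀ x y : X, x * y = y * x) (hp : ∀ x : X, x ^ r = 1) (hk : Nat.card X ≤ r ^ k) : SD d (MulAut X) := by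
  have : Fact r.Prime := ⟨hr⟩
  refine sd_mulAut_of hc hp hk fun V Y _ _ _ _ _ hY ρ hn y hy => ?_
  obtain ⟨m, t, h3, h4, h5, hU⟩ := flagK (N := k) hτ
    (fun W _ _ _ σ hσ h3 h4 => irr_tab hY σ hσ h3 (h1 _ h4 h3)) _ V ρ rfl hn
  obtain ⟨h6, h7⟩ := h2 m (by omega) h3
  refine hU.eq_one (c := d - τ m) (by omega) y ?_
  rwa [Nat.add_sub_cancel' h6]

/-- `GL₅(2)` -/
theorem sd_mulAut_two {X : Type} [Group X] [Finite X] (hc : ∀ x y : X, x * y = y * x) (hp : ∀ x : X, x ^ 2 = 1)
    (hk : Nat.card X ≤ 2 ^ 5) : SD 4 (MulAut X) := by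
  refine sd_mulAut_tab Nat.prime_two (fun m => if m ≤ 1 then 0 else if m ≤ 3 then 2 else 3) (fun a b hab => ?_)
    (by decide +kernel) (by decide) hc hp hk
  dsimp only
  split_ifs <;> omega

theorem sd_mulAut_two_sub {G : Type} [Group G] [Finite G] {E : Subgroup G} (hc : ∀ x ∈ E, ∀ y ∈ E, x * y = y * x)
    (hp : ∀ x ∈ E, x ^ 2 = 1) (hk : Nat.card E ≤ 2 ^ 5) : SD 4 (MulAut E) :=
  sd_mulAut_two (fun x y => Subtype.ext (hc x x.2 y y.2)) (fun x => Subtype.ext (hp x x.2)) hk

theorem exists_odd_prime_ne {U : Type*} [Group U] [Finite U] [IsSimpleGroup U] (hU : ¬ IsMulCommutative U) (p : ℕ) :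
    ∃ r : ℕ, r.Prime ∧ r ≠ p ∧ r ≠ 2 ∧ r ∣ Nat.card U := by
  by_contra hc
  push Not at hc
  refine hU ⟨⟨IsSimpleGroup.comm_iff_isSolvable.2
    (SolvableStructure.HallConverse.isSolvable_of_no_three_primes ?_)⟩⟩
  refine (Finset.card_le_card (t := {p, 2}) fun r hr => ?_).trans Finset.card_le_two
  rw [Finset.mem_insert, Finset.mem_singleton]
  by_contra h
  push Not at h
  exact hc r (Nat.prime_of_mem_primeFactors hr) h.1 h.2 (Nat.dvd_of_mem_primeFactors hr)

/-- **Step A**, with the rank bound for odd primes only. -/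
theorem stepA' (big : Big) {G : Type} [Group G] [Finite G] {S H : Subgroup G} (hs : Setup S H) (p : ℕ)
    (hrk : ∀ r : ℕ, r.Prime → r ≠ p → r ≠ 2 → RankLe S r 15)
    (hR : ∀ r : ℕ, r.Prime → ∀ R : Subgroup G, R ≠ ⊥ → R ≤ S → H ≤ normalizer (R : Set G) → IsPGroup r R →
      (∀ x ∈ R, ∀ y ∈ R, x * y = y * x) ∧ SD 8 (MulAut R)) : PS 9 H := by
  have := hs.normal
  have := hs.simple
  refine ps_fit big (S.subgroupOf H) (a := 8) (c := 5) le_rfl (fun Y _ => ?_) (fun r hr R hRn hRS hRp => ?_)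
    fun U _ _ _ hU k N hN f hf hker => ?_
  · refine (dS_anti Y (show 3 ≤ 8 by norm_num)).trans ((dS_mono le_top 3).trans ?_)
    rw [dS_top]
    intro x hx
    exact derivedSeries_le_of_ds hs.cent (big.sch S hs.noncomm) (map_derivedSeries_le H.subtype 3 ⟨x, hx, rfl⟩)
  · by_cases h0 : R = ⊥
    · subst h0
      refine ⟨fun x hx y _ => by rw [mem_bot.1 hx, one_mul, mul_one], fun Y _ y _ => ?_⟩
      rw [mem_centralizer_iff]
      intro x hx
      rw [mem_bot.1 hx, one_mul, mul_one]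
    obtain ⟨h1, h2⟩ := hR r hr (R.map H.subtype)
      (by rwa [Ne, Subgroup.map_eq_bot_iff_of_injective _ H.subtype_injective])
      (by rintro _ ⟨x, hx, rfl⟩; exact hRS hx)
      (le_normalizer_of_conj (by
        rintro g hg _ ⟨x, hx, rfl⟩
        exact ⟨_, hRn.conj_mem x hx ⟨g, hg⟩, rfl⟩)) (hRp.map _)
    refine ⟨fun x hx y hy => Subtype.ext (h1 _ ⟨x, hx, rfl⟩ _ ⟨y, hy, rfl⟩), fun Y hY => ?_⟩
    have h3 : SD 8 (MulAut R) := SD.of_inj (MulAut.congr (R.equivMapOfInjective _ H.subtype_injective)).toMonoidHom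
      (MulAut.congr _).injective h2
    have h4 : dS Y 8 ≤ (MulAut.conjNormal : H →* MulAut R).ker := by
      rw [← Subgroup.map_eq_bot_iff, dS_map, ← Cl.map_derivedSeries_eq,
        h3 _ (Group.isSolvable_of_surjective (MonoidHom.subgroupMap_surjective _ Y)), Subgroup.map_bot]
    intro y hy
    rw [mem_centralizer_iff]
    intro x hx
    have h5 : y * x * y⁻¹ = x :=
      congrArg Subtype.val (DFunLike.congr_fun (MonoidHom.mem_ker.1 (h4 hy)) (⟨x, hx⟩ : R))
    rw [mul_inv_eq_iff_eq_mul] at h5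
    exact h5.symm
  · obtain ⟨r, hr, hrp, hr2, hd⟩ := exists_odd_prime_ne hU p
    let g : N →* S := (H.subtype.comp N.subtype).codRestrict S fun x => hN x.2
    have hg : Function.Injective g := fun x y hxy =>
      Subtype.ext (Subtype.ext (congrArg (fun z : S => (z : G)) hxy))
    have h1 := le_of_rankLe (ps_zero_of_simple hU) hr hd f hf hker ((hrk r hr hrp hr2).of_inj g hg)
    exact sd_perm_fifteen (by simpa using h1)

/-- **Lemma (A).** -/
theorem lemA (big : Big) (hL : Lin.LB 8 8) {G : Type} [Group G] [Finite G] {S H R : Subgroup G} (hs : Setup S H) (p : ℕ)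
    (hrk : ∀ s : ℕ, s.Prime → s ≠ p → s ≠ 2 → RankLe S s 15) {r : ℕ} (hr : r.Prime)
    (hc : ∀ x ∈ R, ∀ y ∈ R, x * y = y * x) (hp : ∀ x ∈ R, x ^ r = 1) (hk : Nat.card R ≤ r ^ 8)
    (hQ : ∀ s : ℕ, s.Prime → ∀ Q : Subgroup G, Q ≤ S → H ≤ normalizer (Q : Set G) → IsPGroup s Q → Q ≤ R) :
    PS 9 H := by
  refine stepA' big hs p hrk fun s hs' Q _ hQS hQH hQp => ?_
  have h1 := hQ s hs' Q hQS hQH hQp
  have h2 : ∀ x ∈ Q, ∀ y ∈ Q, x * y = y * x := fun x hx y hy => hc x (h1 hx) y (h1 hy)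
  exact ⟨h2, sd_mulAut_sub hL hr h2 (fun x hx => hp x (h1 hx)) ((card_le_of_le h1).trans hk)⟩

end Cfsg.Agent.DS.NT
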