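import Cfsg.Agent.DS.NT.JLin

/-!
# Non-toral local subgroups, the `J`-geometry lemma for groups (helper98)

`Z` is an elementary abelian `r`-subgroup of a group `X`, `Ω ⊆ Z`, and `P z` (in the application the centralizer of the
subgroup `J_z`) meets `Z` in a subgroup of index `r ^ 2`.  `JM.main`: `|Z| ≤ r ^ 6`, or `Ω` generates a subgroup of rank
at least `9` with a known number of elements of `Ω`.
-/

set_option autoImplicit false

namespace Cfsg.Agent.DS.NT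

open Module
open scoped IsMulCommutative

section lin

variable {K V : Type*} [Field K] [AddCommGroup V] [Module K V] {Ω : Set V} {P : V → Submodule K V}
  {B₁ W₁ B₂ W₂ B₃ W₃ : Submodule K V}

theorem finrank_three [FiniteDimensional K V] (h1 : Blk Ω P B₁ W₁) (h2 : Blk Ω P B₂ W₂) (h3 : Blk Ω P B₃ W₃)
    (l2 : B₂ ≤ W₁) (l3 : B₃ ≤ W₁) (l4 : B₃ ≤ W₂) : finrank K ↥(B₁ ⊔ (B₂ ⊔ B₃)) = 9 := by
  have e1 := Submodule.finrank_sup_add_finrank_inf_eq B₂ B₃
  have e2 := Submodule.finrank_sup_add_finrank_inf_eq B₁ (B₂ ⊔ B₃)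
  rw [(h2.compl.disjoint.mono_right l4).eq_bot, finrank_bot, h2.dim, h3.dim] at e1
  rw [(h1.compl.disjoint.mono_right (sup_le l2 l3)).eq_bot, finrank_bot, h1.dim] at e2
  omega

theorem sum_zero_eight {B : Type*} [Zero B] [Fintype B] [DecidableEq B] (hB : Fintype.card B = 8) (g : Bool → ℕ) :
    ∑ a : B, g (decide (a = 0)) = g true + 7 * g false := by
  rw [← Finset.add_sum_erase _ _ (Finset.mem_univ (0 : B)),
    Finset.sum_congr rfl (g := fun _ => g false) fun a ha => by rw [decide_eq_false (Finset.ne_of_mem_erase ha)],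
    Finset.sum_const, Finset.card_erase_of_mem (Finset.mem_univ _), Finset.card_univ, hB]
  simp

theorem ncard_three [Finite V] (hK : Nat.card K = 2) (h0 : (0 : V) ∉ Ω) (h1 : Blk Ω P B₁ W₁) (h2 : Blk Ω P B₂ W₂)
    (h3 : Blk Ω P B₃ W₃) (l2 : B₂ ≤ W₁) (l3 : B₃ ≤ W₁) (l4 : B₃ ≤ W₂)
    (h6 : ∀ z ∈ Ω, ∀ x ∈ P z, x ≠ 0 → x ≠ z → (x ∈ Ω ↔ x + z ∉ Ω)) :
    {a | a ∈ B₁ ⊔ (B₂ ⊔ B₃) ∧ a ∈ Ω}.ncard = 364 := by
  classical
  have hc : ∀ {B W : Submodule K V}, Blk Ω P B W → Nat.card B = 8 := fun h => by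
    rw [Module.natCard_eq_pow_finrank (K := K), hK, h.dim]
    rfl
  have key : ∀ {B W : Submodule K V}, Blk Ω P B W → ∀ a ∈ B, ∀ x ∈ W, a ≠ 0 → x ≠ 0 → (a + x ∈ Ω ↔ x ∉ Ω) := by
    intro B W h a ha x hx ha0 hx0
    rw [h6 a (h.mem a ha ha0) x (h.le ha ha0 hx) hx0 fun he => ha0 (h.zero ha (he ▸ hx)), not_not, add_comm]
  let f : B₁ × B₂ × B₃ → V := fun t => t.1.1 + (t.2.1.1 + t.2.2.1)
  have hbc : ∀ (b : B₂) (c : B₃), b.1 + c.1 = 0 → b = 0 ∧ c = 0 := by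
    intro b c h
    have e1 : b.1 = 0 := h2.zero b.2 (by rw [eq_neg_of_add_eq_zero_left h]; exact neg_mem (l4 c.2))
    rw [e1, zero_add] at h
    exact ⟨Subtype.ext e1, Subtype.ext h⟩
  have hf : Function.Injective f := by
    rintro ⟨a, b, c⟩ ⟨a', b', c'⟩ (h : a.1 + (b.1 + c.1) = a'.1 + (b'.1 + c'.1))
    have e1 : a.1 - a'.1 = 0 := by
      refine h1.zero (sub_mem a.2 a'.2) ?_
      rw [show a.1 - a'.1 = (b'.1 + c'.1) - (b.1 + c.1) by linear_combination (norm := abel) h]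
      exact sub_mem (add_mem (l2 b'.2) (l3 c'.2)) (add_mem (l2 b.2) (l3 c.2))
    have e2 := hbc (b - b') (c - c') (by
      change b.1 - b'.1 + (c.1 - c'.1) = 0
      linear_combination (norm := abel) h - e1)
    rw [Subtype.ext (sub_eq_zero.1 e1), sub_eq_zero.1 e2.1, sub_eq_zero.1 e2.2]
  have hset : {a | a ∈ B₁ ⊔ (B₂ ⊔ B₃) ∧ a ∈ Ω} = f '' {t | f t ∈ Ω} := by
    ext v
    constructor
    · rintro ⟨hv, hvΩ⟩
      obtain ⟨a, ha, w, hw, rfl⟩ := Submodule.mem_sup.1 hv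
      obtain ⟨b, hb, c, hc, rfl⟩ := Submodule.mem_sup.1 hw
      exact ⟨(⟨a, ha⟩, ⟨b, hb⟩, ⟨c, hc⟩), hvΩ, rfl⟩
    · rintro ⟨t, ht, rfl⟩
      exact ⟨Submodule.add_mem_sup t.1.2 (Submodule.add_mem_sup t.2.1.2 t.2.2.2), ht⟩
  have hbcΩ : ∀ (b : B₂) (c : B₃), b.1 + c.1 ∈ Ω ↔ (decide (b = 0) ^^ decide (c = 0)) = true := by
    intro b c
    by_cases hb : b = 0 <;> by_cases hc : c = 0
    · simp [hb, hc, h0]
    · simpa [hb, hc] using h3.mem c c.2 fun h => hc (Subtype.ext h)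
    · simpa [hb, hc] using h2.mem b b.2 fun h => hb (Subtype.ext h)
    · rw [key h2 b b.2 c (l4 c.2) (fun h => hb (Subtype.ext h)) fun h => hc (Subtype.ext h)]
      simpa [hb, hc] using h3.mem c c.2 fun h => hc (Subtype.ext h)
  have hΩ : ∀ t, f t ∈ Ω ↔ (!(decide (t.1 = 0) ^^ (decide (t.2.1 = 0) ^^ decide (t.2.2 = 0)))) = true := by
    rintro ⟨a, b, c⟩
    change a.1 + (b.1 + c.1) ∈ Ω ↔ _
    by_cases ha : a = 0
    · rw [ha, ZeroMemClass.coe_zero, zero_add, hbcΩ]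
      simp
    by_cases hx : b.1 + c.1 = 0
    · obtain ⟨hb, hc⟩ := hbc b c hx
      simpa [ha, hb, hc] using h1.mem a a.2 fun h => ha (Subtype.ext h)
    · rw [key h1 a a.2 _ (add_mem (l2 b.2) (l3 c.2)) (fun h => ha (Subtype.ext h)) hx, hbcΩ]
      simp [ha]
  let : Fintype B₁ := Fintype.ofFinite _
  let : Fintype B₂ := Fintype.ofFinite _
  let : Fintype B₃ := Fintype.ofFinite _
  rw [hset, Set.ncard_image_of_injective _ hf, Set.ncard_eq_toFinset_card', Set.toFinset_ofPred, Finset.card_filter]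
  simp only [hΩ, Fintype.sum_prod_type]
  have c1 : Fintype.card B₁ = 8 := by rw [← Nat.card_eq_fintype_card, hc h1]
  have c2 : Fintype.card B₂ = 8 := by rw [← Nat.card_eq_fintype_card, hc h2]
  have c3 : Fintype.card B₃ = 8 := by rw [← Nat.card_eq_fintype_card, hc h3]
  let g : Bool → Bool → Bool → ℕ := fun x y z => if (!(x ^^ (y ^^ z))) = true then 1 else 0
  change ∑ a : B₁, ∑ b : B₂, ∑ c : B₃, g (decide (a = 0)) (decide (b = 0)) (decide (c = 0)) = 364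
  rw [Finset.sum_congr rfl fun (a : B₁) _ => (Finset.sum_congr rfl fun (b : B₂) _ =>
      sum_zero_eight c3 (g (decide (a = 0)) (decide (b = 0)))).trans
      (sum_zero_eight c2 fun y => g (decide (a = 0)) y true + 7 * g (decide (a = 0)) y false),
    sum_zero_eight c1 fun x => g x true true + 7 * g x true false + 7 * (g x false true + 7 * g x false false)]
  decide

end lin

variable {X : Type*} [Group X]

/-- the axioms of the `J`-geometry, for groups -/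
structure JM (r : ℕ) (Z : Subgroup X) (Ω : Set X) (P : X → Subgroup X) : Prop where
  prime : r.Prime
  comm : ∀ x ∈ Z, ∀ y ∈ Z, x * y = y * x
  pow : ∀ x ∈ Z, x ^ r = 1
  sub : ∀ z ∈ Ω, z ∈ Z
  ne : ∀ z ∈ Ω, z ≠ 1
  nonempty : Ω.Nonempty
  self : ∀ z ∈ Ω, z ∈ P z
  npow : ∀ z ∈ Ω, ∀ k : ℕ, ¬ r ∣ k → z ^ k ∈ Ω ∧ P (z ^ k) = P z
  /-- (J3) -/
  idx : ∀ z ∈ Ω, (P z).relIndex Z = r ^ 2
  /-- (J3) -/
  gen : ∀ z ∈ Ω, ∀ x ∈ Z, ∃ e ∈ Subgroup.closure Ω, e⁻¹ * x ∈ P z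
  /-- (J1) -/
  symm : ∀ z ∈ Ω, ∀ z' ∈ Ω, z' ∈ P z → z ∈ P z'
  /-- (J2) -/
  add : ∀ z ∈ Ω, ∀ x ∈ Ω, x ∉ P z → x * z ∈ Ω
  /-- (J5) -/
  edge : ∀ z ∈ Ω, ∀ z' ∈ Ω, z' ∉ P z → ∀ x ∈ Z, x ∈ P z → ∃ k : ℕ, x * z ^ k ∈ P z'
  /-- (J4) -/
  rad : ∀ x ∈ Z, (∀ z ∈ Ω, x ∈ P z) → x = 1

/-- `ι` identifies the vector space `V` with the subgroup `Z` -/
structure Vec {V : Type*} [AddCommGroup V] (Z : Subgroup X) (ι : V → X) : Prop where
  inj : Function.Injective ι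
  mem : ∀ v, ι v ∈ Z
  surj : ∀ x ∈ Z, ∃ v, ι v = x
  add : ∀ v w, ι (v + w) = ι v * ι w

theorem exists_vec.{u} {X : Type u} [Group X] {r : ℕ} (Z : Subgroup X) (hc : ∀ x ∈ Z, ∀ y ∈ Z, x * y = y * x)
    (hp : ∀ x ∈ Z, x ^ r = 1) :
    ∃ (V : Type u) (_ : AddCommGroup V) (_ : Module (ZMod r) V) (ι : V → X), Vec Z ι := by
  have : IsMulCommutative Z := ⟨⟨fun x y => Subtype.ext (hc x x.2 y y.2)⟩⟩
  refine ⟨Additive Z, inferInstance, AddCommGroup.zmodModule fun a => ?_, fun v => (Additive.toMul v : Z),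
    Subtype.val_injective.comp Additive.toMul.injective, fun v => (Additive.toMul v).2,
    fun x hx => ⟨Additive.ofMul ⟨x, hx⟩, rfl⟩, fun _ _ => rfl⟩
  apply Additive.toMul.injective
  rw [toMul_nsmul]
  exact Subtype.ext (hp _ (Additive.toMul a).2)

namespace Vec

variable {V : Type*} [AddCommGroup V] {Z : Subgroup X} {ι : V → X} (h : Vec Z ι)
include h

theorem zero : ι 0 = 1 := by
  have h1 := h.add 0 0
  rw [add_zero] at h1
  exact (mul_eq_left.1 h1.symm)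

theorem neg (v : V) : ι (-v) = (ι v)⁻¹ := by
  rw [eq_inv_iff_mul_eq_one, ← h.add, neg_add_cancel, h.zero]

theorem nsmul (k : ℕ) (v : V) : ι (k • v) = ι v ^ k := by
  induction k with
  | zero => rw [zero_nsmul, pow_zero, h.zero]
  | succ k ih => rw [succ_nsmul, h.add, ih, pow_succ]

theorem card : Nat.card V = Nat.card Z :=
  Nat.card_congr (Equiv.ofBijective (fun v => (⟨ι v, h.mem v⟩ : Z))
    ⟨fun _ _ e => h.inj (congrArg Subtype.val e), fun x => (h.surj x x.2).imp fun _ e => Subtype.ext e⟩)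

theorem finite [Finite Z] : Finite V :=
  Finite.of_injective (fun v => (⟨ι v, h.mem v⟩ : Z)) fun _ _ e => h.inj (congrArg Subtype.val e)

variable {r : ℕ} [Fact r.Prime] [Module (ZMod r) V]

theorem smul (k : ℕ) (v : V) : ι ((k : ZMod r) • v) = ι v ^ k := by rw [Nat.cast_smul_eq_nsmul, h.nsmul]

variable (r)

/-- the subspace of a subgroup -/
def sub (Q : Subgroup X) : Submodule (ZMod r) V where
  carrier := {v | ι v ∈ Q}
  add_mem' := fun {v w} (hv : ι v ∈ Q) (hw : ι w ∈ Q) => by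
    change ι _ ∈ Q
    rw [h.add]
    exact Q.mul_mem hv hw
  zero_mem' := by
    change ι _ ∈ Q
    rw [h.zero]
    exact Q.one_mem
  smul_mem' := fun a v (hv : ι v ∈ Q) => by
    obtain ⟨k, rfl⟩ := ZMod.natCast_zmod_surjective a
    change ι _ ∈ Q
    rw [h.smul]
    exact Q.pow_mem hv k

variable {r}

theorem mem_sub {Q : Subgroup X} {v : V} : v ∈ h.sub r Q ↔ ι v ∈ Q := Iff.rfl

/-- the subgroup of a subspace -/
def grp (B : Submodule (ZMod r) V) : Subgroup X where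
  carrier := ι '' B
  mul_mem' := by
    rintro _ _ ⟨v, hv, rfl⟩ ⟨w, hw, rfl⟩
    exact ⟨v + w, B.add_mem hv hw, h.add v w⟩
  one_mem' := ⟨0, B.zero_mem, h.zero⟩
  inv_mem' := by
    rintro _ ⟨v, hv, rfl⟩
    exact ⟨-v, B.neg_mem hv, h.neg v⟩

theorem mem_grp {B : Submodule (ZMod r) V} {x : X} : x ∈ h.grp B ↔ ∃ v ∈ B, ι v = x := Iff.rfl

theorem card_grp [Finite V] (B : Submodule (ZMod r) V) : Nat.card (h.grp B) = r ^ finrank (ZMod r) B := by
  have e := Module.natCard_eq_pow_finrank (K := ZMod r) (V := B)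
  rw [Nat.card_zmod] at e
  rw [← e]
  exact Nat.card_image_of_injective h.inj _

theorem card_eq [Finite V] : Nat.card Z = r ^ finrank (ZMod r) V := by
  have e := Module.natCard_eq_pow_finrank (K := ZMod r) (V := V)
  rwa [Nat.card_zmod, h.card] at e

theorem grp_sub (Q : Subgroup X) : h.grp (h.sub r Q) = Q ⊓ Z := by
  ext x
  constructor
  · rintro ⟨v, hv, rfl⟩
    exact ⟨hv, h.mem v⟩
  · rintro ⟨h1, h2⟩
    obtain ⟨v, rfl⟩ := h.surj x h2
    exact ⟨v, h1, rfl⟩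

theorem mem_span {Ω : Set X} (hΩ : ∀ z ∈ Ω, z ∈ Z) (v : V) :
    v ∈ Submodule.span (ZMod r) (ι ⁻¹' Ω) ↔ ι v ∈ Subgroup.closure Ω := by
  constructor
  · exact fun hv => (Submodule.span_le (p := h.sub r (Subgroup.closure Ω))).2
      (fun w hw => Subgroup.subset_closure hw) hv
  · intro hv
    have h1 : Subgroup.closure Ω ≤ h.grp (Submodule.span (ZMod r) (ι ⁻¹' Ω)) := by
      rw [Subgroup.closure_le]
      intro x hx
      obtain ⟨w, rfl⟩ := h.surj x (hΩ x hx)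
      exact ⟨w, Submodule.subset_span hx, rfl⟩
    obtain ⟨w, hw, e⟩ := h1 hv
    exact h.inj e ▸ hw

end Vec

/-- **The `J`-geometry lemma.** -/
theorem JM.main {r : ℕ} {Z : Subgroup X} [Finite Z] {Ω : Set X} {P : X → Subgroup X} (h : JM r Z Ω P) :
    (Nat.card Z ≤ r ^ 6 ∧ Subgroup.closure Ω = Z) ∨ ∃ A : Subgroup X, A ≤ Subgroup.closure Ω ∧ Nat.card A = r ^ 9 ∧
      (r = 2 → (∀ z ∈ Ω, ∀ x ∈ Z, x ∈ P z → x ≠ 1 → x ≠ z → (x ∈ Ω ↔ x * z ∉ Ω)) →
        {a | a ∈ A ∧ a ∈ Ω}.ncard = 364) := by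
  have : Fact r.Prime := ⟨h.prime⟩
  obtain ⟨V, _, _, ι, hι⟩ := exists_vec Z h.comm h.pow
  have := hι.finite
  have hclZ : Subgroup.closure Ω ≤ Z := (Subgroup.closure_le _).2 h.sub
  have hspan := hι.mem_span (r := r) h.sub
  have hJ : JG (K := ZMod r) (ι ⁻¹' Ω) fun v => hι.sub r (P (ι v)) :=
    { ne := fun z hz h0 => h.ne _ hz (by rw [h0, hι.zero])
      self := fun z hz => h.self _ hz
      smul := fun z hz a ha => by
        obtain ⟨k, rfl⟩ := ZMod.natCast_zmod_surjective a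
        obtain ⟨h1, h2⟩ := h.npow _ hz k fun hd => ha ((ZMod.natCast_eq_zero_iff k r).2 hd)
        rw [Set.mem_preimage, hι.smul, h2]
        exact ⟨h1, rfl⟩
      dim := fun z hz => by
        have h1 := ((P (ι z)).subgroupOf Z).card_mul_index
        have h2 : Nat.card ((P (ι z)).subgroupOf Z) = r ^ finrank (ZMod r) (hι.sub r (P (ι z))) := by
          rw [← hι.card_grp, hι.grp_sub, ← Subgroup.subgroupOf_map_subtype]
          exact Nat.card_congr (Subgroup.equivMapOfInjective _ _ Z.subtype_injective).toEquiv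
        rw [h2, hι.card_eq (r := r), show ((P (ι z)).subgroupOf Z).index = r ^ 2 from h.idx _ hz, ← pow_add] at h1
        exact Nat.pow_right_injective h.prime.two_le h1
      gen := fun z hz => by
        rw [eq_top_iff]
        intro v _
        obtain ⟨e, he, hev⟩ := h.gen _ hz _ (hι.mem v)
        obtain ⟨w, rfl⟩ := hι.surj e (hclZ he)
        rw [← add_neg_cancel_left w v]
        refine Submodule.add_mem_sup ((hspan _).2 he) ?_
        rwa [hι.mem_sub, hι.add, hι.neg]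
      symm := fun z hz z' hz' hm => h.symm _ hz _ hz' hm
      add := fun z hz x hx hn a => by
        obtain ⟨k, rfl⟩ := ZMod.natCast_zmod_surjective a
        rw [Set.mem_preimage, hι.add, hι.smul]
        induction k with
        | zero => rwa [pow_zero, mul_one]
        | succ k ih =>
          rw [pow_succ, ← mul_assoc]
          exact h.add _ hz _ ih fun hm => hn ((Subgroup.mul_mem_cancel_right _ ((P (ι z)).pow_mem (h.self _ hz) k)).1 hm)
      edge := fun z hz z' hz' hn x hx => by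
        obtain ⟨k, hk⟩ := h.edge _ hz _ hz' hn _ (hι.mem x) hx
        refine ⟨-(k : ZMod r), ?_⟩
        rw [neg_smul, sub_neg_eq_add, hι.mem_sub, hι.add, hι.smul]
        exact hk
      rad := fun x hx => hι.inj (hι.zero ▸ h.rad _ (hι.mem x) fun z hz => by
        obtain ⟨w, rfl⟩ := hι.surj z (h.sub z hz)
        exact hx w hz) }
  obtain ⟨z, hz⟩ := h.nonempty
  obtain ⟨z, rfl⟩ := hι.surj z (h.sub z hz)
  rcases hJ.main ⟨z, hz⟩ with ⟨h1, h2⟩ | ⟨B₁, W₁, B₂, W₂, B₃, W₃, h1, h2, h3, l2, l3, l4⟩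
  · left
    refine ⟨?_, le_antisymm hclZ fun x hx => ?_⟩
    · rw [hι.card_eq (r := r)]
      exact Nat.pow_le_pow_right h.prime.pos h1
    · obtain ⟨v, rfl⟩ := hι.surj x hx
      exact (hspan v).1 (h2 ▸ Submodule.mem_top)
  · right
    have hsp : ∀ {B W}, Blk (ι ⁻¹' Ω) (fun v => hι.sub r (P (ι v))) B W → B ≤ Submodule.span (ZMod r) (ι ⁻¹' Ω) := by
      intro B W hB u hu
      by_cases h0 : u = 0
      · rw [h0]; exact zero_mem _
      · exact Submodule.subset_span (hB.mem u hu h0)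
    refine ⟨hι.grp (B₁ ⊔ (B₂ ⊔ B₃)), ?_, by rw [hι.card_grp, finrank_three h1 h2 h3 l2 l3 l4], fun hr h6 => ?_⟩
    · rintro _ ⟨v, hv, rfl⟩
      exact (hspan v).1 (sup_le (hsp h1) (sup_le (hsp h2) (hsp h3)) hv)
    · have hn := ncard_three (K := ZMod r) (Ω := ι ⁻¹' Ω) (by rw [Nat.card_zmod, hr]) (fun h0 => h.ne _ h0 hι.zero)
        h1 h2 h3 l2 l3 l4 (fun z hz x hx hx0 hxz => by
          rw [Set.mem_preimage, Set.mem_preimage, hι.add]
          exact h6 _ hz _ (hι.mem x) hx (fun e => hx0 (hι.inj (e.trans hι.zero.symm))) fun e => hxz (hι.inj e))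
      rw [← hn, ← Set.ncard_image_of_injective _ hι.inj]
      congr 1
      ext x
      constructor
      · rintro ⟨⟨v, hv, rfl⟩, hxΩ⟩
        exact ⟨v, ⟨hv, hxΩ⟩, rfl⟩
      · rintro ⟨v, ⟨hv, hvΩ⟩, rfl⟩
        exact ⟨⟨v, hv, rfl⟩, hvΩ⟩

end Cfsg.Agent.DS.NT
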