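import Mathlib

/-!
# Non-toral local subgroups, the `J`-geometry: linear algebra (helper98)

`V` is a vector space, `Ω` a set of non-zero vectors, `P z` a subspace of codimension two for `z ∈ Ω`.  The axioms
`JG` force `V` to be a direct sum of three-dimensional blocks.
-/

set_option autoImplicit false

namespace Cfsg.Agent.DS.NT

open Module Submodule

variable {K V : Type*} [Field K] [AddCommGroup V] [Module K V]

/-- the axioms of the `J`-geometry -/
structure JG (Ω : Set V) (P : V → Submodule K V) : Prop where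
  ne : ∀ z ∈ Ω, z ≠ 0
  self : ∀ z ∈ Ω, z ∈ P z
  smul : ∀ z ∈ Ω, ∀ a : K, a ≠ 0 → a • z ∈ Ω ∧ P (a • z) = P z
  dim : ∀ z ∈ Ω, finrank K (P z) + 2 = finrank K V
  gen : ∀ z ∈ Ω, span K Ω ⊔ P z = ⊤
  symm : ∀ z ∈ Ω, ∀ z' ∈ Ω, z' ∈ P z → z ∈ P z'
  add : ∀ z ∈ Ω, ∀ x ∈ Ω, x ∉ P z → ∀ a : K, x + a • z ∈ Ω
  edge : ∀ z ∈ Ω, ∀ z' ∈ Ω, z' ∉ P z → ∀ x ∈ P z, ∃ a : K, x - a • z ∈ P z'
  rad : ∀ x, (∀ z ∈ Ω, x ∈ P z) → x = 0

/-- a block `B` with its complement `W` -/
structure Blk (Ω : Set V) (P : V → Submodule K V) (B W : Submodule K V) : Prop where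
  dim : finrank K B = 3
  compl : IsCompl B W
  mem : ∀ u ∈ B, u ≠ 0 → u ∈ Ω
  perp : ∀ u ∈ B, u ≠ 0 → P u = W ⊔ span K {u}

theorem Blk.zero {Ω : Set V} {P : V → Submodule K V} {B W : Submodule K V} (h : Blk Ω P B W) {x : V} (hB : x ∈ B)
    (hW : x ∈ W) : x = 0 := (Submodule.disjoint_def.1 h.compl.disjoint) x hB hW

theorem Blk.le {Ω : Set V} {P : V → Submodule K V} {B W : Submodule K V} (h : Blk Ω P B W) {u : V} (hu : u ∈ B)
    (h0 : u ≠ 0) : W ≤ P u := by
  rw [h.perp u hu h0]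
  exact le_sup_left

theorem Blk.mem_perp {Ω : Set V} {P : V → Submodule K V} {B W : Submodule K V} (h : Blk Ω P B W) {u x : V}
    (hu : u ∈ B) (h0 : u ≠ 0) (hx : x ∈ P u) : ∃ a : K, x - a • u ∈ W := by
  rw [h.perp u hu h0, mem_sup] at hx
  obtain ⟨y, hy, _, hz, rfl⟩ := hx
  obtain ⟨a, rfl⟩ := mem_span_singleton.1 hz
  exact ⟨a, by rwa [add_sub_cancel_right]⟩

theorem exists_not_mem_of_finrank_lt [FiniteDimensional K V] {S T : Submodule K V} (h : finrank K S < finrank K T) :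
    ∃ x ∈ T, x ∉ S := by
  by_contra hc
  push Not at hc
  exact absurd (Submodule.finrank_mono (show T ≤ S from hc)) (by omega)

namespace JG

variable [FiniteDimensional K V] {Ω : Set V} {P : V → Submodule K V} (h : JG Ω P)
include h

omit [FiniteDimensional K V] in
theorem not_mem {z z' : V} (hz : z ∈ Ω) (hz' : z' ∈ Ω) (hn : z' ∉ P z) : z ∉ P z' := fun hm => hn (h.symm _ hz' _ hz hm)

theorem exists_not_mem {z : V} (hz : z ∈ Ω) (x : V) : ∃ e ∈ Ω, e ∉ P z ⊔ span K {x} := by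
  by_contra hc
  push Not at hc
  have h1 : P z ⊔ span K {x} = ⊤ := by
    rw [eq_top_iff, ← h.gen z hz]
    exact sup_le (span_le.2 hc) le_sup_left
  have h2 := finrank_sup_add_finrank_inf_eq (P z) (span K {x})
  have h3 : finrank K (span K {x}) ≤ 1 := by simpa using finrank_span_le_card (R := K) ({x} : Set V)
  have h4 := h.dim z hz
  rw [h1, finrank_top] at h2
  omega

section edge

variable {z z' : V} (hz : z ∈ Ω) (hz' : z' ∈ Ω) (hn : z' ∉ P z)
include hz hz' hn

omit [FiniteDimensional K V] in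
theorem line (a b : K) (h0 : a • z + b • z' ≠ 0) : a • z + b • z' ∈ Ω ∧ P (a • z + b • z') ≤ P z ⊔ span K {z'} := by
  by_cases hb : b = 0
  · subst hb
    rw [zero_smul, add_zero] at h0 ⊢
    have ha : a ≠ 0 := by rintro rfl; exact h0 (zero_smul _ _)
    exact ⟨(h.smul z hz a ha).1, by rw [(h.smul z hz a ha).2]; exact le_sup_left⟩
  have h1 : b • z' ∉ P z := fun hm => hn ((smul_mem_iff _ hb).1 hm)
  have h2 : a • z + b • z' ∈ Ω := by
    rw [add_comm]
    exact h.add z hz _ (h.smul z' hz' b hb).1 h1 a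
  have h3 : a • z + b • z' ∉ P z := fun hm => h1 ((Submodule.add_mem_iff_right _ (smul_mem _ a (h.self z hz))).1 hm)
  refine ⟨h2, fun x hx => ?_⟩
  obtain ⟨c, hc⟩ := h.edge _ h2 z hz (h.not_mem hz h2 h3) x hx
  have e : x = (x - c • (a • z + b • z') + (c * a) • z) + (c * b) • z' := by module
  rw [e]
  exact add_mem_sup (add_mem hc (smul_mem _ _ (h.self z hz))) (smul_mem _ _ (mem_span_singleton_self z'))

omit [FiniteDimensional K V] in
theorem line_not_mem {e : V} (he : e ∈ Ω) (hen : e ∉ P z ⊔ span K {z'}) (a b : K) (h0 : a • z + b • z' ≠ 0) :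
    a • z + b • z' ∉ P e := fun hm =>
  hen ((h.line hz hz' hn a b h0).2 (h.symm e he _ (h.line hz hz' hn a b h0).1 hm))

omit [FiniteDimensional K V] in
theorem inf_le_out {e : V} (he : e ∈ Ω) (hen : e ∉ P z ⊔ span K {z'}) : P z ⊓ P z' ≤ P e := by
  intro x hx
  have h1 : e ∉ P z := fun hm => hen (mem_sup_left hm)
  have h2 : e ∉ P z' := by
    have h3 := (h.line hz hz' hn 0 1 (by simpa using h.ne z' hz')).2
    rw [zero_smul, one_smul, zero_add] at h3
    exact fun hm => hen (h3 hm)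
  obtain ⟨a, ha⟩ := h.edge z hz e he h1 x hx.1
  obtain ⟨b, hb⟩ := h.edge z' hz' e he h2 x hx.2
  have h3 : (-a) • z + b • z' = 0 := by
    by_contra h0
    refine h.line_not_mem hz hz' hn he hen _ _ h0 ?_
    have e : (-a) • z + b • z' = (x - a • z) - (x - b • z') := by module
    rw [e]
    exact sub_mem ha hb
  have h4 : b = 0 := by
    by_contra hb0
    refine hn ((smul_mem_iff _ hb0).1 ?_)
    rw [eq_neg_of_add_eq_zero_right h3]
    exact neg_mem (smul_mem _ _ (h.self z hz))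
  rwa [h4, zero_smul, sub_zero] at hb

omit [FiniteDimensional K V] in
theorem inf_le_in {e : V} (he : e ∈ Ω) (hen : e ∉ P z ⊔ span K {z'}) (a b : K) (h0 : a • z + b • z' ≠ 0) :
    P z ⊓ P z' ≤ P (a • z + b • z') := by
  intro x hx
  obtain ⟨h1, h2⟩ := h.line hz hz' hn a b h0
  obtain ⟨c, hc⟩ := h.edge e he _ h1 (h.line_not_mem hz hz' hn he hen a b h0) x (h.inf_le_out hz hz' hn he hen hx)
  have h3 : c = 0 := by
    by_contra hc0
    refine hen ((smul_mem_iff _ hc0).1 ?_)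
    rw [← sub_sub_cancel x (c • e)]
    exact sub_mem (mem_sup_left hx.1) (h2 hc)
  rwa [h3, zero_smul, sub_zero] at hc

theorem exists_blk_edge : ∃ B W : Submodule K V, Blk Ω P B W ∧ z ∈ B := by
  obtain ⟨e, he, hen⟩ := h.exists_not_mem hz z'
  have hn' := h.not_mem hz hz' hn
  have hW : finrank K ↥(P z ⊓ P z') + 3 = finrank K V := by
    have h1 : P z = (P z ⊓ P z') ⊔ span K {z} := by
      refine le_antisymm (fun x hx => ?_) (sup_le inf_le_left ((span_singleton_le_iff_mem _ _).2 (h.self z hz)))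
      obtain ⟨a, ha⟩ := h.edge z hz z' hz' hn x hx
      rw [← sub_add_cancel x (a • z)]
      exact add_mem_sup ⟨sub_mem hx (smul_mem _ _ (h.self z hz)), ha⟩ (smul_mem _ _ (mem_span_singleton_self z))
    have h2 := finrank_sup_span_singleton (K := K) (p := P z ⊓ P z') (v := z) fun hm => hn' hm.2
    have h3 := h.dim z hz
    rw [← h1] at h2
    omega
  have hdis : ∀ a b c : K, a • z + b • z' + c • e ∈ P z ⊓ P z' → a • z + b • z' + c • e = 0 := by
    intro a b c hm
    have h1 : c = 0 := by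
      by_contra hc0
      refine hen ((smul_mem_iff _ hc0).1 ?_)
      have e1 : c • e = (a • z + b • z' + c • e - a • z) + (-b) • z' := by module
      rw [e1]
      exact add_mem_sup (sub_mem hm.1 (smul_mem _ _ (h.self z hz))) (smul_mem _ _ (mem_span_singleton_self z'))
    rw [h1, zero_smul, add_zero] at hm ⊢
    have h2 : b = 0 := by
      by_contra hb0
      exact hn ((smul_mem_iff _ hb0).1 ((Submodule.add_mem_iff_right _ (smul_mem _ a (h.self z hz))).1 hm.1))
    rw [h2, zero_smul, add_zero] at hm ⊢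
    have h3 : a = 0 := by
      by_contra ha0
      exact hn' ((smul_mem_iff _ ha0).1 hm.2)
    rw [h3, zero_smul]
  have hc : IsCompl (span K {z, z', e}) (P z ⊓ P z') := by
    refine ⟨Submodule.disjoint_def.2 fun x hx hx' => ?_, codisjoint_iff.2 ?_⟩
    · obtain ⟨a, b, c, rfl⟩ := mem_span_triple.1 hx
      exact hdis a b c hx'
    · have h1 : P z ⊔ span K {z'} ⊔ span K {e} = ⊤ := by
        apply eq_top_of_finrank_eq
        rw [finrank_sup_span_singleton hen, finrank_sup_span_singleton hn, ← h.dim z hz]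
      rw [eq_top_iff, ← h1]
      refine sup_le (sup_le (fun x hx => ?_) ?_) ?_
      · obtain ⟨a, ha⟩ := h.edge z hz z' hz' hn x hx
        rw [← add_sub_cancel (a • z) x]
        exact add_mem_sup (smul_mem _ _ (subset_span (by simp))) ⟨sub_mem hx (smul_mem _ _ (h.self z hz)), ha⟩
      · exact (span_mono (by simp)).trans le_sup_left
      · exact (span_mono (by simp)).trans le_sup_left
  have hall : ∀ u ∈ span K {z, z', e}, u ≠ 0 → u ∈ Ω ∧ P z ⊓ P z' ≤ P u := by
    intro u hu h0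
    obtain ⟨a, b, c, rfl⟩ := mem_span_triple.1 hu
    by_cases hc0 : c = 0
    · subst hc0
      rw [zero_smul, add_zero] at h0 ⊢
      exact ⟨(h.line hz hz' hn a b h0).1, h.inf_le_in hz hz' hn he hen a b h0⟩
    have h1 : a • z + b • z' + c • e ∈ Ω := by
      by_cases hw : a • z + b • z' = 0
      · rw [hw, zero_add]
        exact (h.smul e he c hc0).1
      · exact h.add e he _ (h.line hz hz' hn a b hw).1 (h.line_not_mem hz hz' hn he hen a b hw) c
    refine ⟨h1, h.inf_le_out hz hz' hn h1 fun hm => hen ((smul_mem_iff _ hc0).1 ?_)⟩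
    refine (Submodule.add_mem_iff_right _ ?_).1 hm
    exact add_mem_sup (smul_mem _ _ (h.self z hz)) (smul_mem _ _ (mem_span_singleton_self z'))
  have hd := finrank_add_eq_of_isCompl hc
  refine ⟨span K {z, z', e}, P z ⊓ P z', ⟨by omega, hc, fun u hu h0 => (hall u hu h0).1, fun u hu h0 => ?_⟩,
    subset_span (by simp)⟩
  obtain ⟨h1, h2⟩ := hall u hu h0
  refine (eq_of_le_of_finrank_eq (sup_le h2 ((span_singleton_le_iff_mem _ _).2 (h.self u h1))) ?_).symm
  have h3 := finrank_sup_span_singleton (K := K) (p := P z ⊓ P z') (v := u)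
    fun hm => h0 (Submodule.disjoint_def.1 hc.disjoint u hu hm)
  have h4 := h.dim u h1
  omega

end edge

theorem exists_blk {z : V} (hz : z ∈ Ω) : ∃ B W : Submodule K V, Blk Ω P B W ∧ z ∈ B := by
  obtain ⟨z', hz', hn⟩ := h.exists_not_mem hz 0
  exact h.exists_blk_edge hz hz' fun hm => hn (mem_sup_left hm)

theorem blk_le {B W B' W' : Submodule K V} (hB : Blk Ω P B W) (hB' : Blk Ω P B' W') {x : V} (hx : x ∈ Ω)
    (hxW : x ∈ W) (hxB : x ∈ B') : B' ≤ W := by
  have h1 : B ≤ P x := by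
    intro u hu
    by_cases h0 : u = 0
    · rw [h0]; exact zero_mem _
    · exact h.symm u (hB.mem u hu h0) x hx (hB.le hu h0 hxW)
  have h2 : 2 ≤ finrank K ↥(B ⊓ W') := by
    have h3 := finrank_sup_add_finrank_inf_eq B W'
    have h4 : finrank K ↥(B ⊔ W') ≤ finrank K (P x) :=
      Submodule.finrank_mono (sup_le h1 (hB'.le hxB (h.ne x hx)))
    have h5 := h.dim x hx
    have h6 := finrank_add_eq_of_isCompl hB'.compl
    have h7 := hB.dim
    have h8 := hB'.dim
    omega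
  intro y hy
  by_cases hy0 : y = 0
  · rw [hy0]; exact zero_mem _
  have key : ∀ u ∈ B ⊓ W', u ≠ 0 → ∃ a : K, y - a • u ∈ W := fun u hu h0 =>
    hB.mem_perp hu.1 h0 (h.symm y (hB'.mem y hy hy0) u (hB.mem u hu.1 h0) (hB'.le hy hy0 hu.2))
  obtain ⟨u, hu, hu0⟩ := exists_not_mem_of_finrank_lt (S := ⊥) (T := B ⊓ W') (by rw [finrank_bot]; omega)
  rw [mem_bot] at hu0
  obtain ⟨v, hv, hv0⟩ := exists_not_mem_of_finrank_lt (S := span K {u}) (T := B ⊓ W')
    (by rw [finrank_span_singleton hu0]; omega)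
  obtain ⟨a, ha⟩ := key u hu hu0
  obtain ⟨b, hb⟩ := key v hv fun h0 => hv0 (h0 ▸ zero_mem _)
  have h3 : b • v - a • u = 0 := by
    refine hB.zero (sub_mem (smul_mem _ _ hv.1) (smul_mem _ _ hu.1)) ?_
    have e : b • v - a • u = (y - a • u) - (y - b • v) := by module
    rw [e]
    exact sub_mem ha hb
  have h4 : b = 0 := by
    by_contra hb0
    refine hv0 ((smul_mem_iff _ hb0).1 ?_)
    rw [sub_eq_zero.1 h3]
    exact smul_mem _ _ (mem_span_singleton_self u)
  rwa [h4, zero_smul, sub_zero] at hb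

theorem compl_le {B W : Submodule K V} (hB : Blk Ω P B W) {w : V} (hw : w ∈ Ω) (hwW : w ∉ W) : W ≤ P w := by
  obtain ⟨b, hb, w', hw', rfl⟩ := mem_sup.1 (show w ∈ B ⊔ W by rw [hB.compl.sup_eq_top]; trivial)
  have hb0 : b ≠ 0 := by
    rintro rfl
    exact hwW (by rwa [zero_add])
  have h1 : ∀ v ∈ B, v ∉ span K {b} → b + w' ∉ P v := by
    intro v hv hvb hm
    obtain ⟨c, hc⟩ := hB.mem_perp hv (fun h0 => hvb (h0 ▸ zero_mem _)) hm
    have h2 : b - c • v = 0 := by
      refine hB.zero (sub_mem hb (smul_mem _ _ hv)) ?_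
      have e : b - c • v = b + w' - c • v - w' := by module
      rw [e]
      exact sub_mem hc hw'
    have h3 : c ≠ 0 := by
      rintro rfl
      exact hb0 (by simpa using h2)
    refine hvb ((smul_mem_iff _ h3).1 ?_)
    rw [← sub_eq_zero.1 h2]
    exact mem_span_singleton_self b
  have h2 : ∀ v ∈ B, v ∉ span K {b} → ∀ x ∈ W, ∃ c : K, x - c • v ∈ P (b + w') := by
    intro v hv hvb x hx
    have h0 : v ≠ 0 := fun h0 => hvb (h0 ▸ zero_mem _)
    exact h.edge v (hB.mem v hv h0) _ hw (h1 v hv hvb) x (hB.le hv h0 hx)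
  obtain ⟨u, hu, hub⟩ := exists_not_mem_of_finrank_lt (S := span K {b}) (T := B)
    (by rw [finrank_span_singleton hb0, hB.dim]; omega)
  obtain ⟨v, hv, hvb⟩ := exists_not_mem_of_finrank_lt (S := span K {b} ⊔ span K {u}) (T := B)
    (by rw [finrank_sup_span_singleton hub, finrank_span_singleton hb0, hB.dim]; omega)
  intro x hx
  obtain ⟨c, hc⟩ := h2 u hu hub x hx
  obtain ⟨d, hd⟩ := h2 v hv (fun hm => hvb (mem_sup_left hm)) x hx
  have h3 : d • v - c • u ∈ span K {b} := by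
    by_contra hn
    have hB' : d • v - c • u ∈ B := sub_mem (smul_mem _ _ hv) (smul_mem _ _ hu)
    refine h1 _ hB' hn (h.symm _ hw _ (hB.mem _ hB' fun h0 => hn (h0 ▸ zero_mem _)) ?_)
    have e : d • v - c • u = (x - c • u) - (x - d • v) := by module
    rw [e]
    exact sub_mem hc hd
  have h4 : d = 0 := by
    by_contra hd0
    refine hvb ((smul_mem_iff _ hd0).1 ?_)
    rw [← sub_add_cancel (d • v) (c • u)]
    exact add_mem_sup h3 (smul_mem _ _ (mem_span_singleton_self u))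
  rwa [h4, zero_smul, sub_zero] at hd

/-- **The `J`-geometry lemma**: dimension at most six, or three orthogonal blocks. -/
theorem main (hne : Ω.Nonempty) : (finrank K V ≤ 6 ∧ span K Ω = ⊤) ∨ ∃ B₁ W₁ B₂ W₂ B₃ W₃ : Submodule K V,
    Blk Ω P B₁ W₁ ∧ Blk Ω P B₂ W₂ ∧ Blk Ω P B₃ W₃ ∧ B₂ ≤ W₁ ∧ B₃ ≤ W₁ ∧ B₃ ≤ W₂ := by
  have hsp : ∀ B W, Blk Ω P B W → B ≤ span K Ω := by
    intro B W hB u hu
    by_cases h0 : u = 0
    · rw [h0]; exact zero_mem _
    · exact subset_span (hB.mem u hu h0)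
  obtain ⟨z, hz⟩ := hne
  obtain ⟨B₁, W₁, h1, -⟩ := h.exists_blk hz
  have d1 := finrank_add_eq_of_isCompl h1.compl
  by_cases c1 : ∃ x ∈ Ω, x ∈ W₁
  · obtain ⟨x, hx, hxW⟩ := c1
    obtain ⟨B₂, W₂, h2, hx2⟩ := h.exists_blk hx
    have d2 := finrank_add_eq_of_isCompl h2.compl
    have l2 := h.blk_le h1 h2 hx hxW hx2
    by_cases c2 : ∃ y ∈ Ω, y ∈ W₁ ∧ y ∈ W₂
    · obtain ⟨y, hy, hy1, hy2⟩ := c2
      obtain ⟨B₃, W₃, h3, hy3⟩ := h.exists_blk hy
      exact Or.inr ⟨B₁, W₁, B₂, W₂, B₃, W₃, h1, h2, h3, l2, h.blk_le h1 h3 hy hy1 hy3, h.blk_le h2 h3 hy hy2 hy3⟩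
    · left
      have h0 : W₁ ⊓ W₂ = ⊥ := by
        rw [eq_bot_iff]
        intro v hv
        refine h.rad v fun w hw => ?_
        by_cases hw1 : w ∈ W₁
        · exact h.compl_le h2 hw (fun hw2 => c2 ⟨w, hw, hw1, hw2⟩) hv.2
        · exact h.compl_le h1 hw hw1 hv.1
      have h3 := finrank_sup_add_finrank_inf_eq W₁ W₂
      have h4 := finrank_le (W₁ ⊔ W₂)
      have h5 := h1.dim
      have h6 := h2.dim
      rw [h0, finrank_bot] at h3
      refine ⟨by omega, ?_⟩
      have h7 : B₂ = W₁ := eq_of_le_of_finrank_le l2 (by omega)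
      rw [eq_top_iff, ← h1.compl.sup_eq_top, ← h7]
      exact sup_le (hsp _ _ h1) (hsp _ _ h2)
  · left
    have h0 : W₁ = ⊥ := by
      rw [eq_bot_iff]
      intro v hv
      exact h.rad v fun w hw => h.compl_le h1 hw (fun hw1 => c1 ⟨w, hw, hw1⟩) hv
    have h5 := h1.dim
    rw [h0, finrank_bot] at d1
    refine ⟨by omega, ?_⟩
    rw [eq_top_iff, ← h1.compl.sup_eq_top, h0]
    exact sup_le (hsp _ _ h1) bot_le

end JG

end Cfsg.Agent.DS.NT
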