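import Cfsg.Agent.DS.NT.JGeo

/-!
# Non-toral local subgroups: the `J`-geometry for `r = 2` (helper98), lemma (F)
-/

set_option autoImplicit false

namespace Cfsg.Agent.DS.NT

open Module Submodule

section lin

variable {K V : Type*} [Field K] [AddCommGroup V] [Module K V] [FiniteDimensional K V] {Ω : Set V}
  {P : V → Submodule K V}

theorem Blk.mem_compl {B W : Submodule K V} (hB : Blk Ω P B W) {x : V} (hx : ∀ b ∈ B, b ≠ 0 → x ∈ P b) : x ∈ W := by
  obtain ⟨u, hu, hu0⟩ := exists_not_mem_of_finrank_lt (S := ⊥) (T := B) (by rw [finrank_bot, hB.dim]; omega)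
  rw [mem_bot] at hu0
  obtain ⟨v, hv, hv0⟩ := exists_not_mem_of_finrank_lt (S := span K {u}) (T := B)
    (by rw [finrank_span_singleton hu0, hB.dim]; omega)
  have hv1 : v ≠ 0 := fun h0 => hv0 (h0 ▸ zero_mem _)
  obtain ⟨a, ha⟩ := hB.mem_perp hu hu0 (hx u hu hu0)
  obtain ⟨b, hb⟩ := hB.mem_perp hv hv1 (hx v hv hv1)
  have h3 : b • v - a • u = 0 := by
    refine hB.zero (sub_mem (smul_mem _ _ hv) (smul_mem _ _ hu)) ?_
    have e : b • v - a • u = (x - a • u) - (x - b • v) := by module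
    rw [e]
    exact sub_mem ha hb
  have h4 : b = 0 := by
    by_contra hb0
    refine hv0 ((smul_mem_iff _ hb0).1 ?_)
    rw [sub_eq_zero.1 h3]
    exact smul_mem _ _ (mem_span_singleton_self u)
  rwa [h4, zero_smul, sub_zero] at hb

theorem JG.le_six (h : JG Ω P) (hne : Ω.Nonempty)
    (h6 : ∀ z ∈ Ω, ∀ x ∈ P z, x ≠ 0 → x ≠ z → (x ∈ Ω ↔ x + z ∉ Ω)) : finrank K V ≤ 6 ∧ span K Ω = ⊤ := by
  rcases h.main hne with h1 | ⟨B₁, W₁, B₂, W₂, B₃, W₃, h1, h2, h3, l2, l3, l4⟩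
  · exact h1
  exfalso
  have ex : ∀ {B W : Submodule K V}, Blk Ω P B W → ∃ b ∈ B, b ≠ 0 := fun {B W} hB => by
    obtain ⟨u, hu, hu0⟩ := exists_not_mem_of_finrank_lt (S := ⊥) (T := B) (by rw [finrank_bot, hB.dim]; omega)
    exact ⟨u, hu, hu0⟩
  obtain ⟨a, ha, ha0⟩ := ex h1
  obtain ⟨b, hb, hb0⟩ := ex h2
  obtain ⟨c, hc, hc0⟩ := ex h3
  have e1 : c + b ∉ Ω := (h6 b (h2.mem b hb hb0) c (h2.le hb hb0 (l4 hc)) hc0
    fun e => hb0 (h2.zero hb (e ▸ l4 hc))).1 (h3.mem c hc hc0)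
  have e2 : c + b ∈ W₁ := add_mem (l3 hc) (l2 hb)
  have e3 : c + b + a ∈ Ω := by
    by_contra hn
    refine e1 ((h6 a (h1.mem a ha ha0) _ (h1.le ha ha0 e2) (fun e => hb0 (h2.zero hb ?_))
      fun e => ha0 (h1.zero ha (e ▸ e2))).2 hn)
    rw [eq_neg_of_add_eq_zero_right e]
    exact neg_mem (l4 hc)
  have e4 : W₁ ≤ P (c + b + a) :=
    h.compl_le h1 e3 fun hm => ha0 (h1.zero ha ((Submodule.add_mem_iff_right _ e2).1 hm))
  have e5 : c + b + a ∈ W₂ := h2.mem_compl fun y hy hy0 => h.symm _ e3 y (h2.mem y hy hy0) (e4 (l2 hy))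
  have e6 : a ∈ W₂ := h2.mem_compl fun y hy hy0 =>
    h.symm a (h1.mem a ha ha0) y (h2.mem y hy hy0) (h1.le ha ha0 (l2 hy))
  exact hb0 (h2.zero hb ((Submodule.add_mem_iff_right _ (l4 hc)).1 ((Submodule.add_mem_iff_left _ e6).1 e5)))

end lin

/-- **(F)** -/
theorem card_le_of_two {X : Type*} [Group X] {Z : Subgroup X} [Finite Z] {Ω : Set X} {P : X → Subgroup X}
    (hc : ∀ x ∈ Z, ∀ y ∈ Z, x * y = y * x) (hp : ∀ x ∈ Z, x ^ 2 = 1) (h1 : 1 ∉ Ω) (hcl : Subgroup.closure Ω = Z)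
    (hself : ∀ z ∈ Ω, z ∈ P z) (hidx : ∀ z ∈ Ω, (P z).relIndex Z = 4)
    (hin : ∀ z ∈ Ω, ∀ x ∈ Z, x ∈ P z → (x * z ∈ Ω ↔ x ∉ Ω))
    (hout : ∀ z ∈ Ω, ∀ x ∈ Z, x ∉ P z → (x * z ∈ Ω ↔ x ∈ Ω))
    (hrad : ∀ x ∈ Z, (∀ z ∈ Ω, x ∈ P z) → x = 1) : Nat.card Z ≤ 2 ^ 6 := by
  have hsub : ∀ z ∈ Ω, z ∈ Z := fun z hz => hcl ▸ Subgroup.subset_closure hz
  rcases Ω.eq_empty_or_nonempty with rfl | ⟨z0, hz0⟩
  · rw [← hcl, Subgroup.closure_empty, Subgroup.card_bot]
    norm_num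
  have hsymm : ∀ z ∈ Ω, ∀ z' ∈ Ω, z' ∈ P z → z ∈ P z' := by
    intro z hz z' hz' hm
    by_contra hn
    have e1 := (hout z' hz' z (hsub z hz) hn).2 hz
    rw [hc z (hsub z hz) z' (hsub z' hz')] at e1
    exact (hin z hz z' (hsub z' hz') hm).1 e1 hz'
  obtain ⟨V, _, _, ι, hι⟩ := exists_vec Z hc hp
  have := hι.finite
  have hspan := hι.mem_span (r := 2) hsub
  have ha : ∀ a : ZMod 2, a = 0 ∨ a = 1 := by decide
  have hJ : JG (K := ZMod 2) (ι ⁻¹' Ω) fun v => hι.sub 2 (P (ι v)) :=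
    { ne := fun z hz h0 => h1 (by rwa [h0, Set.mem_preimage, hι.zero] at hz)
      self := fun z hz => hself _ hz
      smul := fun z hz a ha0 => by
        rw [(ha a).resolve_left ha0, one_smul]
        exact ⟨hz, rfl⟩
      dim := fun z hz => by
        have h1 := ((P (ι z)).subgroupOf Z).card_mul_index
        have h2 : Nat.card ((P (ι z)).subgroupOf Z) = 2 ^ finrank (ZMod 2) (hι.sub 2 (P (ι z))) := by
          rw [← hι.card_grp, hι.grp_sub, ← Subgroup.subgroupOf_map_subtype]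
          exact Nat.card_congr (Subgroup.equivMapOfInjective _ _ Z.subtype_injective).toEquiv
        rw [h2, hι.card_eq (r := 2), show ((P (ι z)).subgroupOf Z).index = 2 ^ 2 from hidx _ hz, ← pow_add] at h1
        exact Nat.pow_right_injective le_rfl h1
      gen := fun z _ => by
        rw [eq_top_iff]
        exact fun v _ => mem_sup_left ((hspan v).2 (hcl ▸ hι.mem v))
      symm := fun z hz z' hz' hm => hsymm _ hz _ hz' hm
      add := fun z hz x hx hn a => by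
        rcases ha a with rfl | rfl
        · rwa [zero_smul, add_zero]
        · rw [one_smul, Set.mem_preimage, hι.add]
          exact (hout _ hz _ (hι.mem x) hn).2 hx
      edge := fun z hz z' hz' hn x hx => by
        by_contra hcon
        push Not at hcon
        have n0 : ι x ∉ P (ι z') := by simpa [hι.mem_sub] using hcon 0
        have n1 : ι x * ι z ∉ P (ι z') := by
          have e := hcon (-1)
          rwa [neg_smul, one_smul, sub_neg_eq_add, hι.mem_sub, hι.add] at e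
        have n2 : ι x * ι z' ∉ P (ι z) := fun hm => hn ((Subgroup.mul_mem_cancel_left _ hx).1 hm)
        have e1 := hout _ hz' _ (Z.mul_mem (hι.mem x) (hι.mem z)) n1
        have e2 := hin _ hz _ (hι.mem x) hx
        have e3 := hout _ hz _ (Z.mul_mem (hι.mem x) (hι.mem z')) n2
        have e4 := hout _ hz' _ (hι.mem x) n0
        rw [mul_assoc, hc _ (hι.mem z') _ (hι.mem z), ← mul_assoc] at e3
        exact iff_not_self (e4.symm.trans (e3.symm.trans (e1.trans e2)))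
      rad := fun x hx => hι.inj (hι.zero ▸ hrad _ (hι.mem x) fun z hz => by
        obtain ⟨w, rfl⟩ := hι.surj z (hsub z hz)
        exact hx w hz) }
  obtain ⟨z, rfl⟩ := hι.surj z0 (hsub z0 hz0)
  rw [hι.card_eq (r := 2)]
  refine Nat.pow_le_pow_right two_pos (hJ.le_six ⟨z, hz0⟩ fun z hz x hx _ _ => ?_).1
  rw [Set.mem_preimage, Set.mem_preimage, hι.add, hin _ hz _ (hι.mem x) hx, not_not]

/-- **(F)**, for a whole group. -/
theorem card_le_of_two' {V : Type*} [Group V] [Finite V] {Ω : Set V} {P : V → Subgroup V}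
    (hc : ∀ x y : V, x * y = y * x) (hp : ∀ x : V, x ^ 2 = 1) (h1 : 1 ∉ Ω) (hcl : Subgroup.closure Ω = ⊤)
    (hself : ∀ z ∈ Ω, z ∈ P z) (hidx : ∀ z ∈ Ω, (P z).index = 4)
    (hin : ∀ z ∈ Ω, ∀ x, x ∈ P z → (x * z ∈ Ω ↔ x ∉ Ω)) (hout : ∀ z ∈ Ω, ∀ x, x ∉ P z → (x * z ∈ Ω ↔ x ∈ Ω))
    (hrad : ∀ x, (∀ z ∈ Ω, x ∈ P z) → x = 1) : Nat.card V ≤ 2 ^ 6 := by
  rw [← Subgroup.card_top]
  exact card_le_of_two (fun x _ y _ => hc x y) (fun x _ => hp x) h1 hcl hself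
    (fun z hz => by rw [Subgroup.relIndex_top_right, hidx z hz]) (fun z hz x _ => hin z hz x)
    (fun z hz x _ => hout z hz x) fun x _ => hrad x

end Cfsg.Agent.DS.NT
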